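import Mathlib

/-! The fixed field of a group of automorphisms stabilising a prime of the separable closure is henselian. -/

set_option autoImplicit false
universe u

namespace DecompHenselLib

open Polynomial

theorem henselian_localization {D : Type u} [CommRing D] (Q : Ideal D) [Q.IsPrime]
    (H : ∀ g : D[X], g.Monic → ∀ a : D, g.eval a ∈ Q → g.derivative.eval a ∉ Q →
      ∃ b, g.eval b = 0 ∧ b - a ∈ Q) :
    HenselianLocalRing (Localization.AtPrime Q) where
  is_henselian f hf a₀ h₁ h₂ := by
    classical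
    set ι := algebraMap D (Localization.AtPrime Q)
    obtain ⟨s, hs⟩ := IsLocalization.exist_integer_multiples Q.primeCompl
      (Finset.range (f.natDegree + 1)) (fun i => if i = f.natDegree then a₀ else f.coeff i)
    set σ := ι (s : D) with hσ
    have hσu : IsUnit σ := IsLocalization.map_units (Localization.AtPrime Q) s
    obtain ⟨a, ha⟩ := hs f.natDegree (Finset.mem_range.2 (Nat.lt_succ_self _))
    rw [if_pos rfl, Algebra.smul_def] at ha
    have hlift : f.scaleRoots σ ∈ lifts ι := by
      rw [lifts_iff_coeff_lifts]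
      intro i
      rw [coeff_scaleRoots]
      rcases lt_trichotomy i f.natDegree with hi | rfl | hi
      · obtain ⟨b, hb⟩ := hs i (Finset.mem_range.2 (by omega))
        rw [if_neg hi.ne, Algebra.smul_def] at hb
        refine ⟨b * (s : D) ^ (f.natDegree - i - 1), ?_⟩
        change ι b = _ at hb
        rw [map_mul, map_pow, hb, ← hσ,
          show σ ^ (f.natDegree - i) = σ * σ ^ (f.natDegree - i - 1) by
            rw [← pow_succ', Nat.sub_add_cancel (by omega)]]
        ring
      · exact ⟨1, by rw [map_one, hf.coeff_natDegree, Nat.sub_self, pow_zero, one_mul]⟩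
      · exact ⟨0, by rw [map_zero, coeff_eq_zero_of_natDegree_lt hi, zero_mul]⟩
    obtain ⟨g, hg, -, hgm⟩ := lifts_and_natDegree_eq_and_monic hlift ((monic_scaleRoots_iff σ).2 hf)
    change g.map ι = _ at hg
    change ι a = σ * a₀ at ha
    have hcomp : (f.scaleRoots σ).comp (C σ * X) = C (σ ^ f.natDegree) * f := by
      ext i
      rw [comp_C_mul_X_coeff, coeff_scaleRoots, coeff_C_mul]
      by_cases hi : i ≤ f.natDegree
      · rw [mul_assoc, ← pow_add, Nat.sub_add_cancel hi, mul_comm]
      · rw [coeff_eq_zero_of_natDegree_lt (not_le.1 hi)]; simp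
    have hev : ∀ x : (Localization.AtPrime Q), (g.map ι).eval (σ * x) = σ ^ f.natDegree * f.eval x := fun x => by
      simpa [hg] using congr(Polynomial.eval x $hcomp)
    have hder : ∀ x : (Localization.AtPrime Q), (g.map ι).derivative.eval (σ * x) * σ = σ ^ f.natDegree * f.derivative.eval x :=
      fun x => by
        have := congr(Polynomial.eval x (derivative $hcomp))
        rw [derivative_comp, derivative_C_mul, derivative_C_mul, derivative_X, mul_one] at this
        simp only [eval_mul, eval_C, eval_comp, eval_X] at this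
        rw [hg, mul_comm]
        exact this
    have hmem : ∀ c : D, ι c ∈ IsLocalRing.maximalIdeal (Localization.AtPrime Q) ↔ c ∈ Q := fun c =>
      IsLocalization.AtPrime.to_map_mem_maximal_iff (Localization.AtPrime Q) Q c
    obtain ⟨b, hb, hba⟩ := H g hgm a (by
      rw [← hmem, ← eval₂_hom, ← eval_map, ha, hev]
      exact Ideal.mul_mem_left _ _ h₁) (by
      intro h
      rw [← hmem, ← eval₂_hom, ← eval_map, ← derivative_map, ha] at h
      have h3 := Ideal.mul_mem_right σ _ h
      rw [hder] at h3
      exact h3 ((hσu.pow _).mul h₂))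
    obtain ⟨r, hr⟩ := hσu
    refine ⟨↑r⁻¹ * ι b, ?_, ?_⟩
    · have := hev (↑r⁻¹ * ι b)
      rw [← mul_assoc, ← hr, Units.mul_inv, one_mul, eval_map, eval₂_hom, hb, map_zero] at this
      exact ((r.isUnit.pow _).mul_right_eq_zero.1 this.symm)
    · have := Ideal.mul_mem_left _ (↑r⁻¹ : (Localization.AtPrime Q)) ((hmem (b - a)).2 hba)
      rwa [map_sub, mul_sub, ha, ← mul_assoc, ← hr, Units.inv_mul, one_mul] at this

variable {R K Ks : Type u} [CommRing R] [Field K] [Algebra R K] [Field Ks] [Algebra K Ks] [IsSepClosure K Ks]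
  [Algebra R Ks] [IsScalarTower R K Ks]

/-- A simple residual root of a polynomial over the invariants lifts to an invariant root. -/
theorem henselian_fixedField (Ps : Ideal (integralClosure R Ks)) [Ps.IsPrime]
    (S : Set (Ks ≃ₐ[K] Ks))
    (hS : ∀ σ ∈ S, ∀ x : integralClosure R Ks, x ∈ Ps →
      ∃ h : σ (x : Ks) ∈ integralClosure R Ks, (⟨σ (x : Ks), h⟩ : integralClosure R Ks) ∈ Ps)
    (L : IntermediateField K Ks) (hL : L = IntermediateField.fixedField (Subgroup.closure S))
    (Q : Ideal (integralClosure R L)) [Q.IsPrime]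
    (hQ : ∀ y : integralClosure R L, y ∈ Q ↔
      ∃ x : integralClosure R Ks, x ∈ Ps ∧ (x : Ks) = ((y : L) : Ks)) :
    HenselianLocalRing (Localization.AtPrime Q) := by
  classical
  refine henselian_localization Q fun g hg a h₁ h₂ => ?_
  let T := integralClosure R Ks
  let ι : integralClosure R L →ₐ[R] T :=
    AlgHom.mapIntegralClosure ((IntermediateField.val L).restrictScalars R)
  have hQι : ∀ y, y ∈ Q ↔ ι y ∈ Ps := fun y =>
    (hQ y).trans ⟨fun ⟨x, hx, he⟩ => (Subtype.ext he : x = ι y) ▸ hx, fun h => ⟨ι y, h, rfl⟩⟩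
  let Ω := AlgebraicClosure Ks
  let U := integralClosure R Ω
  let j : T →ₐ[R] U := AlgHom.mapIntegralClosure (IsScalarTower.toAlgHom R Ks Ω)
  have hj : Function.Injective j := fun x y h => Subtype.ext
    ((algebraMap Ks Ω).injective (congrArg Subtype.val h))
  letI : Algebra T U := j.toRingHom.toAlgebra
  have : IsScalarTower R T U := IsScalarTower.of_algebraMap_eq fun r => (j.commutes r).symm
  have : Algebra.IsIntegral R U := ⟨fun z => by
    refine (isIntegral_algHom_iff U.val Subtype.val_injective).1 ?_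
    exact z.2⟩
  have : Algebra.IsIntegral T U := Algebra.IsIntegral.tower_top R
  obtain ⟨P, -, hP, hPc⟩ := Ideal.exists_ideal_over_prime_of_isIntegral Ps (⊥ : Ideal U)
    (by rw [Ideal.comap_bot_of_injective (algebraMap T U) hj]; exact bot_le)
  have hjP : ∀ x, j x ∈ P ↔ x ∈ Ps := fun x => by rw [← hPc]; exact Iff.rfl
  set θ := (j.comp ι).toRingHom
  set G := g.map θ with hG
  have hGm : G.Monic := hg.map _
  have hGev : ∀ p : (integralClosure R L)[X], ∀ x, (p.map θ).eval (θ x) = θ (p.eval x) :=
    fun p x => by rw [eval_map, eval₂_hom]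
  obtain ⟨α, hα, hαa⟩ : ∃ α : U, G.eval α = 0 ∧ θ a - α ∈ P := by
    set GΩ := G.map U.val.toRingHom
    have hsplit : GΩ.Splits := IsAlgClosed.splits _
    have hroot : ∀ r ∈ GΩ.roots, IsIntegral R r := fun r hr => by
      have h : IsIntegral U r := ⟨G, hGm, by
        rw [← eval_map]; exact (mem_roots'.1 hr).2⟩
      exact isIntegral_trans _ h
    set M : Multiset U := GΩ.roots.attach.map fun r => ⟨r.1, hroot r.1 r.2⟩
    have hprod : G = (M.map fun r => X - C r).prod := by
      apply map_injective U.val.toRingHom Subtype.val_injective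
      show GΩ = _
      conv_lhs => rw [hsplit.eq_prod_roots_of_monic (hGm.map _)]
      rw [Polynomial.map_multiset_prod, Multiset.map_map, Multiset.map_map]
      congr 1
      conv_lhs => rw [← Multiset.attach_map_val GΩ.roots, Multiset.map_map]
      exact Multiset.map_congr rfl fun r _ => by simp
    have hmem : G.eval (θ a) ∈ P := by
      rw [hGev]
      exact (hjP _).2 ((hQι _).1 h₁)
    rw [hprod, eval_multiset_prod, Multiset.map_map] at hmem
    obtain ⟨z, hz, hzP⟩ := (Ideal.IsPrime.multiset_prod_mem_iff_exists_mem ‹P.IsPrime› _).1 hmem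
    obtain ⟨r, hr, rfl⟩ := Multiset.mem_map.1 hz
    have hrP := hzP
    refine ⟨r, ?_, by simpa using hrP⟩
    rw [hprod, eval_multiset_prod, Multiset.prod_eq_zero]
    rw [Multiset.map_map]
    exact Multiset.mem_map.2 ⟨r, hr, by simp⟩
  have hder : G.derivative.eval α ∉ P := fun h => by
    refine h₂ ((hQι _).2 ((hjP _).1 ?_))
    show θ _ ∈ P
    rw [← hGev, ← derivative_map, ← hG]
    have := Ideal.mem_of_dvd P (sub_dvd_eval_sub (θ a) α G.derivative) hαa
    simpa using add_mem this h
  set fL := g.map (integralClosure R L).val.toRingHom with hfL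
  have hfG : fL.map (algebraMap L Ω) = G.map U.val.toRingHom := by
    rw [hfL, hG, Polynomial.map_map, Polynomial.map_map]
    congr 1
  have hfα : aeval (α : Ω) fL = 0 := by
    rw [aeval_def, ← eval_map, hfG, eval_map]
    exact (eval₂_hom U.val.toRingHom α).trans (by rw [hα, map_zero])
  have hf'α : aeval (α : Ω) (derivative fL) ≠ 0 := by
    rw [aeval_def, ← eval_map, ← derivative_map, hfG, derivative_map, eval_map]
    intro h
    have : U.val.toRingHom (G.derivative.eval α) = 0 := (eval₂_hom U.val.toRingHom α).symm.trans h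
    exact hder ((map_eq_zero_iff U.val.toRingHom Subtype.val_injective).1 this ▸ zero_mem P)
  have hint : IsIntegral L (α : Ω) := ⟨fL, hg.map _, hfα⟩
  have hsep : IsSeparable L (α : Ω) := by
    refine (separable_iff_derivative_ne_zero (minpoly.irreducible hint)).2 fun h0 => hf'α ?_
    obtain ⟨k, hk⟩ := minpoly.dvd L (α : Ω) hfα
    rw [hk, derivative_mul, h0, zero_mul, zero_add, map_mul, minpoly.aeval, zero_mul]
  obtain ⟨β, hβ⟩ : (α : Ω) ∈ Set.range (algebraMap Ks Ω) := by
    have : IsSepClosed Ks := IsSepClosure.sep_closed K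
    have hsK : IsSeparable Ks (α : Ω) := hsep.tower_top Ks
    exact minpoly.degree_eq_one_iff.1
      (IsSepClosed.degree_eq_one_of_irreducible Ks (minpoly.irreducible hsK.isIntegral) hsK)
  have hβint : IsIntegral R β :=
    (isIntegral_algHom_iff (IsScalarTower.toAlgHom R Ks Ω) (algebraMap Ks Ω).injective).1 (by
      show IsIntegral R (algebraMap Ks Ω β)
      rw [hβ]; exact α.2)
  set b₀ : T := ⟨β, hβint⟩
  have hjb : j b₀ = α := Subtype.ext hβ
  set Gs := g.map ι.toRingHom with hGs
  have hGsj : Gs.map j.toRingHom = G := by rw [hGs, hG, Polynomial.map_map]; rfl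
  have hb0 : Gs.eval b₀ = 0 := hj (by
    rw [map_zero]
    show j.toRingHom _ = 0
    rw [← eval₂_hom, ← eval_map, hGsj]
    show G.eval (j b₀) = 0
    rw [hjb, hα])
  have hb0a : ι a - b₀ ∈ Ps := by
    rw [← hjP, map_sub, hjb]; exact hαa
  obtain ⟨h, hh⟩ : X - C b₀ ∣ Gs := dvd_iff_isRoot.2 hb0
  have hhb : h.eval b₀ ∉ Ps := fun hc => hder (by
    have : Gs.derivative.eval b₀ ∈ Ps := by
      rw [hh, derivative_mul]
      simpa using hc
    rw [← hGsj, derivative_map, ← hjb, eval_map]
    erw [eval₂_hom]
    exact (hjP _).2 this)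
  have hfix : ∀ σ ∈ S, σ β = β := by
    intro σ hσ
    obtain ⟨hmem, hσP⟩ := hS σ hσ (ι a - b₀) hb0a
    have hσa : σ ((a : L) : Ks) = ((a : L) : Ks) :=
      (IntermediateField.mem_fixedField_iff _ _).1 (hL ▸ (a : L).2) σ (Subgroup.subset_closure hσ)
    have hσint : IsIntegral R (σ β) := hβint.map ((σ : Ks →ₐ[K] Ks).restrictScalars R)
    set b₁ : T := ⟨σ β, hσint⟩
    have hb1a : ι a - b₁ ∈ Ps := by
      convert hσP using 1
      refine Subtype.ext ?_
      show ((a : L) : Ks) - σ β = σ (((a : L) : Ks) - β)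
      rw [map_sub, hσa]
    have hb1 : Gs.eval b₁ = 0 := by
      apply Subtype.val_injective
      have h1 := congrArg (fun t : T => (σ (t : Ks))) hb0
      simp only [ZeroMemClass.coe_zero, map_zero] at h1
      show T.val.toRingHom _ = T.val.toRingHom 0
      rw [map_zero, ← eval₂_hom, hGs, eval₂_map]
      change σ.toRingEquiv.toRingHom (T.val.toRingHom (Gs.eval b₀)) = 0 at h1
      rw [← eval₂_hom, hGs, eval₂_map, hom_eval₂] at h1
      convert h1 using 2
      refine RingHom.ext fun c => ?_
      exact ((IntermediateField.mem_fixedField_iff _ _).1 (hL ▸ (c : L).2) σ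
        (Subgroup.subset_closure hσ)).symm
      rfl
    have h2 : (b₁ - b₀) * h.eval b₁ = 0 := by
      rw [← hb1, hh]; simp
    have h3 : h.eval b₁ ∉ Ps := fun hc => hhb (by
      have hd : b₀ - b₁ ∈ Ps := by simpa using sub_mem hb1a hb0a
      simpa using add_mem (Ideal.mem_of_dvd Ps (sub_dvd_eval_sub b₀ b₁ h) hd) hc)
    have h4 : b₁ = b₀ := sub_eq_zero.1 ((mul_eq_zero.1 h2).resolve_right fun h0 => h3 (h0 ▸ zero_mem _))
    exact congrArg Subtype.val h4
  have hβL : β ∈ L := by
    rw [hL, IntermediateField.mem_fixedField_iff]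
    intro f hf
    induction hf using Subgroup.closure_induction with
    | mem x hx => exact hfix x hx
    | one => rfl
    | mul x y _ _ hx hy => rw [AlgEquiv.mul_apply, hy, hx]
    | inv x _ hx => conv_lhs => rw [← hx]
                    exact x.symm_apply_apply β
  have hbint : IsIntegral R (⟨β, hβL⟩ : L) :=
    (isIntegral_algHom_iff ((IntermediateField.val L).restrictScalars R) Subtype.val_injective).1 hβint
  set b : integralClosure R L := ⟨_, hbint⟩
  have hιb : ι b = b₀ := rfl
  refine ⟨b, ?_, (hQι _).2 ?_⟩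
  · have hι : Function.Injective ι.toRingHom := fun x y hxy =>
      Subtype.ext (Subtype.ext (congrArg (fun z : T => (z : Ks)) hxy))
    apply hι
    rw [map_zero, ← eval₂_hom, ← eval_map]
    exact hb0
  · rw [map_sub, hιb]; simpa using neg_mem hb0a

end DecompHenselLib
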